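import Groth.Prelude.Def_ClSub2
import Groth.Agent.Lib.NegVanAmple
import Groth.Agent.Lib.IdealModMul
import Groth.Agent.Lib.CurvePoint
import Groth.Agent.QCoh.HHExact
import Groth.Agent.S8914

/-!
# Cohomology and the thickenings of an ample divisor
-/

noncomputable section

set_option autoImplicit false
set_option linter.style.haveILetI false
set_option backward.isDefEq.respectTransparency false
set_option backward.isDefEq.respectTransparency.types false

universe u

open CategoryTheory CategoryTheory.Limits AlgebraicGeometry TopologicalSpace Opposite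
open Groth.Agent.H23

namespace Groth.Agent.H26.LefAmple

open Groth.Agent

variable {X : Scheme.{u}}

theorem isInvertible_of_inverse {L M : X.Modules} (hL : PicF.IsInvertible L) (hM : ClSub.IsInverseOf L M) :
    PicF.IsInvertible M := by
  letI := PicMul.clMonoid X
  obtain ⟨D, hD, e⟩ := PicInv.exists_inverse hL
  have h1 : PicF.cl L * PicF.cl D = 1 := PicMul.cl_eq_iff.2 e
  have h2 : PicF.cl L * PicF.cl M = 1 := PicMul.cl_eq_iff.2 hM
  obtain ⟨w⟩ := PicMul.cl_eq_iff.1 (left_inv_eq_right_inv ((mul_comm _ _).trans h1) h2)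
  exact PicMul.isInvertible_of_iso w hD

/-- The ideal of a power of an invertible ideal. -/
theorem cl_idealMod_pow {J : X.IdealSheafData} (hJ : PicF.IsInvertible (ClSub.idealMod J)) : ∀ n : ℕ,
    PicF.IsInvertible (ClSub.idealMod (J ^ (n + 1))) ∧
      (letI := PicMul.clMonoid X; PicF.cl (ClSub.idealMod (J ^ (n + 1))) = PicF.cl (ClSub.idealMod J) ^ (n + 1)) := by
  letI := PicMul.clMonoid X
  intro n
  induction n with
  | zero => rw [zero_add, pow_one, pow_one]; exact ⟨hJ, rfl⟩
  | succ n ih =>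
    obtain ⟨h1, h2⟩ := ih
    rw [pow_succ J (n + 1), pow_succ _ (n + 1)]
    refine ⟨IdealModMul.isInvertible_mul h1 hJ, ?_⟩
    rw [IdealModMul.cl_mul h1 hJ, h2]

theorem exists_stalk_structure (x : X) :
    Nonempty ((Coh.structureModule X).presheaf.stalk x ≃ₗ[X.presheaf.stalk x] X.presheaf.stalk x) :=
  InvStalk.exists_stalk_equiv (CurveDeg.isInvertible_structureModule (X := X)) x

/-- The twisted ideals of the thickenings of an ample divisor kill cohomology below the depth. -/
theorem exists_subsingleton_idealMod {k : Type u} [Field k] (f : X ⟶ Spec (CommRingCat.of k)) [IsProper f]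
    {𝓘 : X.IdealSheafData} {L : X.Modules} (hL : ClSub.IsInverseOf L (ClSub.idealMod 𝓘)) (hamp : CohB1.IsAmple L)
    (n : ℕ) (hdepth : ∀ x : X, IsClosed ({x} : Set X) →
      (n : ℕ∞) < LocCoh.depth (X.presheaf.stalk x) (X.presheaf.stalk x)) :
    ∃ m₀ : ℕ, ∀ m : ℕ, m₀ ≤ m → ∀ i : ℕ, i ≤ n → Subsingleton (Coh.HH X (ClSub.idealMod (𝓘 ^ (m + 1))) i) := by
  haveI : IsLocallyNoetherian X := LocallyOfFiniteType.isLocallyNoetherian f
  letI := PicMul.clMonoid X
  have hI : PicF.IsInvertible (ClSub.idealMod 𝓘) := isInvertible_of_inverse hamp.1 hL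
  have hO : Coh.IsCoh (Coh.structureModule X) := CurveDeg.isCoh_of_isInvertible CurveDeg.isInvertible_structureModule
  have hd : ∀ x : X, IsClosed ({x} : Set X) →
      ((n + 1 : ℕ) : ℕ∞) ≤ LocCoh.depth (X.presheaf.stalk x) ((Coh.structureModule X).presheaf.stalk x) := fun x hx => by
    obtain ⟨e⟩ := exists_stalk_structure (X := X) x
    rw [Hensel.depth_congr (R := X.presheaf.stalk x) e]
    exact Order.add_one_le_of_lt (hdepth x hx)
  have key : ∀ i ∈ Finset.range (n + 1), ∃ n₀ : ℕ, ∀ m : ℕ, n₀ ≤ m →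
      Subsingleton (Coh.HH X (CohB1.tensorMod (Coh.structureModule X) (CohB1.tensorPow (ClSub.idealMod 𝓘) m)) i) :=
    fun i hi => NegVanAmple.exists_vanishing f hamp hL hO (n + 1) hd i (Finset.mem_range.1 hi)
  choose N hN using key
  refine ⟨(Finset.range (n + 1)).attach.sup (fun i => N i.1 i.2), fun m hm i hi => ?_⟩
  have hi' : i ∈ Finset.range (n + 1) := Finset.mem_range.2 (Nat.lt_succ_of_le hi)
  have h := hN i hi' (m + 1)
    ((Finset.le_sup (f := fun i : {x // x ∈ Finset.range (n + 1)} => N i.1 i.2) (Finset.mem_attach _ ⟨i, hi'⟩)).trans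
      (hm.trans m.le_succ))
  have hc : PicF.cl (CohB1.tensorMod (Coh.structureModule X) (CohB1.tensorPow (ClSub.idealMod 𝓘) (m + 1))) =
      PicF.cl (ClSub.idealMod (𝓘 ^ (m + 1))) := by
    rw [PicMul.cl_tensor, PicMul.cl_tensorPow, (cl_idealMod_pow hI m).2, ← PicMul.one_def, one_mul]
  obtain ⟨w⟩ := PicMul.cl_eq_iff.1 hc
  exact QCoh.subsingleton_HH_of_iso w i h

/-- `0 → I → O → O/I → 0`. -/
def idealSES (I : X.IdealSheafData) : ShortComplex X.Modules :=
  ShortComplex.mk (ClSub.idealModι I) (ClSub.toSubscheme I) (kernel.condition _)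

theorem idealSES_shortExact (I : X.IdealSheafData) : (idealSES I).ShortExact := by
  haveI := CurvePoint.epi_toSubscheme I
  exact { exact := ShortComplex.exact_kernel (ClSub.toSubscheme I)
          mono_f := inferInstanceAs (Mono (kernel.ι (ClSub.toSubscheme I)))
          epi_g := inferInstanceAs (Epi (ClSub.toSubscheme I)) }

theorem injective_toSub (I : X.IdealSheafData) (i : ℕ) (h : Subsingleton (Coh.HH X (ClSub.idealMod I) i)) :
    Function.Injective (Sheaf.H.map ((SheafOfModules.toSheaf X.ringCatSheaf).map (ClSub.toSubscheme I)) i) := by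
  have hS := QCoh.toAb_shortExact (idealSES_shortExact I)
  refine (injective_iff_map_eq_zero _).2 fun x hx => ?_
  obtain ⟨y, rfl⟩ := Abelian.Ext.covariant_sequence_exact₂ _ hS x hx
  rw [@Subsingleton.elim _ h y 0, Abelian.Ext.zero_comp]

theorem surjective_toSub (I : X.IdealSheafData) (i : ℕ) (h : Subsingleton (Coh.HH X (ClSub.idealMod I) (i + 1))) :
    Function.Surjective (Sheaf.H.map ((SheafOfModules.toSheaf X.ringCatSheaf).map (ClSub.toSubscheme I)) i) := by
  have hS := QCoh.toAb_shortExact (idealSES_shortExact I)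
  intro x
  obtain ⟨y, hy⟩ := Abelian.Ext.covariant_sequence_exact₃ _ hS x rfl (@Subsingleton.elim _ h _ _)
  exact ⟨y, hy⟩

end Groth.Agent.H26.LefAmple
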