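import Groth.Agent.H26.LefAmple.Basic
import Groth.Agent.H26.LefFEt.Quot
import Groth.Agent.H23.Chern.Dual
import Groth.Agent.GrLib8.SerreCorr.Les
import Groth.Prelude.Def_Lef

/-!
# Formal homomorphisms out of negative powers of an ample module
-/

noncomputable section

set_option autoImplicit false
set_option linter.style.haveILetI false
set_option backward.isDefEq.respectTransparency false
set_option backward.isDefEq.respectTransparency.types false

universe u

open CategoryTheory CategoryTheory.Limits AlgebraicGeometry TopologicalSpace Opposite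
open Groth.Agent.H23

namespace Groth.Agent.H26.LefAmple

open Groth.Agent

variable {X : Scheme.{u}}

theorem exists_lift_of_shortExact {S : ShortComplex X.Modules} (hS : S.ShortExact)
    (h1 : Subsingleton (Coh.HH X S.X₁ 1)) (a : Coh.structureModule X ⟶ S.X₃) : ∃ b, b ≫ S.g = a := by
  obtain ⟨t, ht⟩ := QCoh.app_top_surjective_of_HH_one hS h1 (a.app ⊤ (1 : Γ(X, ⊤)))
  refine ⟨QCoh.homOfTop t, LefIdem.hom_ext_one _ _ ?_⟩
  show S.g.app ⊤ ((QCoh.homOfTop t).app ⊤ (1 : Γ(X, ⊤))) = _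
  rw [LefIdem.app_homOfTop, ht]

theorem eq_zero_of_comp_zero {S : ShortComplex X.Modules} (hS : S.ShortExact)
    (h0 : Subsingleton (Coh.HH X S.X₁ 0)) (a : Coh.structureModule X ⟶ S.X₂) (ha : a ≫ S.g = 0) : a = 0 := by
  haveI := hS.mono_f
  haveI : Subsingleton Γ(S.X₁, ⊤) :=
    (Sheaf.H.equiv₀ ((SheafOfModules.toSheaf X.ringCatSheaf).obj S.X₁) isTerminalTop).symm.toEquiv.injective.subsingleton
  obtain ⟨c, hc⟩ : ∃ c, c ≫ S.f = a := ⟨hS.fIsKernel.lift (KernelFork.ofι a ha), Fork.IsLimit.lift_ι hS.fIsKernel⟩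
  have : c = 0 := LefIdem.hom_ext_one _ _ (@Subsingleton.elim Γ(S.X₁, ⊤) _ _ _)
  rw [← hc, this, zero_comp]

/-- The twist `φ ↦ E ⊗ φ`. -/
def tw {E M : X.Modules} (w : (DCoh.tensorBi.obj E).obj M ≅ Coh.structureModule X) {Q : X.Modules} (φ : M ⟶ Q) :
    Coh.structureModule X ⟶ (DCoh.tensorBi.obj E).obj Q :=
  w.inv ≫ (DCoh.tensorBi.obj E).map φ

/-- Compatible systems of homomorphisms from an inverse power of the ideal of an ample divisor algebraize. -/
theorem exists_hom_of_formal {k : Type u} [Field k] (f : X ⟶ Spec (CommRingCat.of k)) [IsProper f]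
    {𝓘 : X.IdealSheafData} {L : X.Modules} (hL : ClSub.IsInverseOf L (ClSub.idealMod 𝓘)) (hamp : CohB1.IsAmple L)
    (hdepth : ∀ x : X, IsClosed ({x} : Set X) → (2 : ℕ∞) ≤ LocCoh.depth (X.presheaf.stalk x) (X.presheaf.stalk x))
    {E M : X.Modules} (hE : PicF.IsInvertible E) (w : (DCoh.tensorBi.obj E).obj M ≅ Coh.structureModule X)
    (y : ∀ n : ℕ, M ⟶ ClSub.quotMod (𝓘 ^ (n + 1))) (hy : Lef.IsFormalHom 𝓘 M y) :
    ∃ φ : M ⟶ Coh.structureModule X, ∀ n, φ ≫ ClSub.toSubscheme (𝓘 ^ (n + 1)) = y n := by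
  haveI : IsLocallyNoetherian X := LocallyOfFiniteType.isLocallyNoetherian f
  letI := PicMul.clMonoid X
  have hI : PicF.IsInvertible (ClSub.idealMod 𝓘) := isInvertible_of_inverse hamp.1 hL
  have hd : ∀ x : X, IsClosed ({x} : Set X) →
      ((2 : ℕ) : ℕ∞) ≤ LocCoh.depth (X.presheaf.stalk x) (E.presheaf.stalk x) := fun x hx => by
    obtain ⟨e⟩ := InvStalk.exists_stalk_equiv hE x
    exact (hdepth x hx).trans_eq (Hensel.depth_congr (R := X.presheaf.stalk x) e).symm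
  obtain ⟨n₀, hn₀⟩ := NegVanAmple.exists_vanishing f hamp hL (CurveDeg.isCoh_of_isInvertible hE) 2 hd 0 two_pos
  obtain ⟨n₁, hn₁⟩ := NegVanAmple.exists_vanishing f hamp hL (CurveDeg.isCoh_of_isInvertible hE) 2 hd 1 one_lt_two
  let T := DCoh.tensorBi.obj E
  haveI : T.IsEquivalence := Chern.isEquivalence_ten hE
  have hvan : ∀ m, max n₀ n₁ ≤ m → ∀ i ≤ 1, Subsingleton (Coh.HH X (T.obj (ClSub.idealMod (𝓘 ^ (m + 1)))) i) := by
    intro m hm i hi
    have hc : PicF.cl (ClSub.idealMod (𝓘 ^ (m + 1))) = PicF.cl (CohB1.tensorPow (ClSub.idealMod 𝓘) (m + 1)) := by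
      rw [PicMul.cl_tensorPow, (cl_idealMod_pow hI m).2]
    obtain ⟨e⟩ := PicMul.cl_eq_iff.1 hc.symm
    refine QCoh.subsingleton_HH_of_iso (T.mapIso e) i ?_
    rcases Nat.le_one_iff_eq_zero_or_eq_one.1 hi with rfl | rfl
    · exact hn₀ (m + 1) (by omega)
    · exact hn₁ (m + 1) (by omega)
  let S : ℕ → ShortComplex X.Modules := fun m => (idealSES (𝓘 ^ (m + 1))).map T
  have hS : ∀ m, (S m).ShortExact := fun m => (idealSES_shortExact (𝓘 ^ (m + 1))).map_of_exact T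
  have hbij : ∀ m, max n₀ n₁ ≤ m → Function.Bijective
      (fun φ : M ⟶ Coh.structureModule X => φ ≫ ClSub.toSubscheme (𝓘 ^ (m + 1))) := by
    intro m hm
    refine ⟨fun a b hab => ?_, fun z => ?_⟩
    · have h1 := eq_zero_of_comp_zero (hS m) (hvan m hm 0 zero_le_one) (tw w (a - b)) (by
        show (w.inv ≫ T.map (a - b)) ≫ T.map (ClSub.toSubscheme (𝓘 ^ (m + 1))) = 0
        rw [Category.assoc, ← Functor.map_comp, Preadditive.sub_comp, sub_eq_zero.2 hab, T.map_zero, comp_zero])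
      refine sub_eq_zero.1 (T.map_injective ?_)
      rw [T.map_zero]
      exact (cancel_epi w.inv).1 (h1.trans comp_zero.symm)
    · obtain ⟨b, hb⟩ := exists_lift_of_shortExact (hS m) (hvan m hm 1 le_rfl) (tw w z)
      refine ⟨T.preimage (w.hom ≫ b), T.map_injective ?_⟩
      rw [Functor.map_comp, Functor.map_preimage, Category.assoc]
      exact (congrArg (w.hom ≫ ·) hb).trans (w.hom_inv_id_assoc _)
  obtain ⟨φ, hφ⟩ := (hbij _ le_rfl).2 (y (max n₀ n₁))
  have down : ∀ (m : ℕ) (ψ : M ⟶ Coh.structureModule X), ψ ≫ ClSub.toSubscheme (𝓘 ^ (m + 1 + 1)) = y (m + 1) →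
      ψ ≫ ClSub.toSubscheme (𝓘 ^ (m + 1)) = y m := fun m ψ h => by
    rw [← hy m, ← h, Category.assoc, LefFEt.toSub_quotMap]
  have downs : ∀ (d m : ℕ) (ψ : M ⟶ Coh.structureModule X), ψ ≫ ClSub.toSubscheme (𝓘 ^ (m + d + 1)) = y (m + d) →
      ψ ≫ ClSub.toSubscheme (𝓘 ^ (m + 1)) = y m := by
    intro d
    induction d with
    | zero => exact fun m ψ h => h
    | succ d ih => exact fun m ψ h => ih m ψ (down (m + d) ψ h)
  refine ⟨φ, fun n => ?_⟩
  rcases le_total n (max n₀ n₁) with h | h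
  · obtain ⟨d, hd'⟩ := Nat.exists_eq_add_of_le h
    exact downs d n φ (hd' ▸ hφ)
  · obtain ⟨ψ, hψ⟩ := (hbij n h).2 (y n)
    obtain ⟨d, rfl⟩ := Nat.exists_eq_add_of_le h
    obtain rfl : ψ = φ := (hbij _ le_rfl).1 ((downs d _ ψ hψ).trans hφ.symm)
    exact hψ

end Groth.Agent.H26.LefAmple
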