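import Groth.Agent.S5195
import Groth.Agent.Hartogs.Basic

/-!
# The complement of a neighbourhood of an ample divisor is a finite set of closed points
-/

noncomputable section

set_option autoImplicit false
set_option linter.style.haveILetI false

universe u

open CategoryTheory CategoryTheory.Limits AlgebraicGeometry TopologicalSpace

namespace Groth.Agent.H26.LefAmple

variable {k : Type u} [Field k] {X : Scheme.{u}} (f : X ⟶ Spec (CommRingCat.of k)) [IsProper f]

include f in
/-- A closed subset disjoint from an ample divisor consists of finitely many closed points. -/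
theorem finite_of_disjoint_support {𝓘 : X.IdealSheafData} {L : X.Modules}
    (hL : ClSub.IsInverseOf L (ClSub.idealMod 𝓘)) (hamp : CohB1.IsAmple L) {T : Set X} (hT : IsClosed T)
    (hTY : Disjoint T (𝓘.support : Set X)) : T.Finite ∧ ∀ z ∈ T, IsClosed ({z} : Set X) := by
  letI : X.Over (Spec (CommRingCat.of k)) := ⟨f⟩
  haveI : IsProper (X ↘ Spec (CommRingCat.of k)) := ‹IsProper f›
  haveI : IsLocallyNoetherian X := LocallyOfFiniteType.isLocallyNoetherian f
  haveI : CompactSpace X := hamp.2.1
  haveI : IsNoetherian X := {}
  have hcl : ∀ z ∈ T, IsClosed ({z} : Set X) := fun z hz => by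
    have h := (S5195.result k X 𝓘 L hL hamp T hT hTY 0).1 z hz
    have he : Topology.IsClosedEmbedding (f.fiberι (f.base z)).base := by
      refine ⟨(f.fiberι (f.base z)).isEmbedding, ?_⟩
      rw [Scheme.Hom.range_fiberι]
      have : f.base ⁻¹' {f.base z} = Set.univ :=
        Set.eq_univ_of_forall fun x => Subsingleton.elim (α := PrimeSpectrum k) (f.base x) (f.base z)
      exact this ▸ isClosed_univ
    have h2 := he.isClosedMap ({f.asFiber z} : Set ↥(f.fiber (f.base z))) h
    rwa [Set.image_singleton, Scheme.Hom.fiberι_asFiber] at h2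
  refine ⟨?_, hcl⟩
  haveI : NoetherianSpace T := inferInstance
  haveI : T1Space T := ⟨fun z => by
    have h := (hcl z.1 z.2).preimage (continuous_subtype_val (p := (· ∈ T)))
    rwa [show (Subtype.val ⁻¹' {z.1} : Set T) = {z} from Set.ext fun w => Subtype.ext_iff.symm] at h⟩
  have hfin := NoetherianSpace.finite_irreducibleComponents (α := T)
  haveI : QuasiSober T := (hT.isClosedEmbedding_subtypeVal).quasiSober
  refine Set.finite_coe_iff.1 (Set.finite_univ_iff.1 ?_)
  rw [← sUnion_irreducibleComponents]
  refine hfin.sUnion fun C hC => ?_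
  obtain ⟨z, hz⟩ := QuasiSober.sober hC.1 (isClosed_of_mem_irreducibleComponents C hC)
  rw [← hz.def, IsClosed.closure_eq isClosed_singleton]
  exact Set.finite_singleton z

include f in
/-- The complement of a neighbourhood of an ample divisor has depth two if the closed points have. -/
theorem depth_two_of_disjoint_support {𝓘 : X.IdealSheafData} {L : X.Modules}
    (hL : ClSub.IsInverseOf L (ClSub.idealMod 𝓘)) (hamp : CohB1.IsAmple L)
    (hdepth : ∀ x : X, IsClosed ({x} : Set X) → (2 : ℕ∞) ≤ LocCoh.depth (X.presheaf.stalk x) (X.presheaf.stalk x))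
    {T : Set X} (hT : IsClosed T) (hTY : Disjoint T (𝓘.support : Set X)) :
    ∀ z ∈ T, (2 : ℕ∞) ≤ LocCoh.depth (X.presheaf.stalk z) (X.presheaf.stalk z) := fun z hz =>
  hdepth z ((finite_of_disjoint_support f hL hamp hT hTY).2 z hz)

end Groth.Agent.H26.LefAmple
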