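import Groth.Agent.H26.LefFEt.Quot
import Groth.Agent.FComplLib.IdealComap
import Groth.Agent.Lib.DivisorExt

/-!
# `O/I` and open neighbourhoods of `V(I)`
-/

noncomputable section

set_option autoImplicit false
set_option linter.style.haveILetI false
set_option backward.isDefEq.respectTransparency false
set_option backward.isDefEq.respectTransparency.types false

universe u

open CategoryTheory CategoryTheory.Limits AlgebraicGeometry TopologicalSpace Opposite

namespace Groth.Agent.H26.LefAmple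

open Groth.Agent

variable {X : Scheme.{u}}

/-- `O/I` is the direct image of its restriction to an open containing `V(I)`. -/
theorem isIso_kMap {I : X.IdealSheafData} (U : X.Opens) (hU : (I.support : Set X) ⊆ (U : Set X)) :
    IsIso (LefFEt.kMap U.ι I) := by
  haveI : IsOpenImmersion (LefFEt.subMap U.ι I) :=
    MorphismProperty.of_isPullback (LefFEt.isPullback_subMap U.ι I).flip (inferInstanceAs (IsOpenImmersion U.ι))
  haveI : Surjective (LefFEt.subMap U.ι I) := by
    refine ⟨fun q => ?_⟩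
    have hq : I.subschemeι q ∈ (U : Set X) := hU (by
      rw [← Scheme.IdealSheafData.range_subschemeι]; exact ⟨q, rfl⟩)
    obtain ⟨p, hp, -⟩ := Scheme.Pullback.exists_preimage_pullback (f := I.subschemeι) (g := U.ι) q (⟨_, hq⟩ : U.toScheme) rfl
    refine ⟨(LefFEt.isPullback_subMap U.ι I).isoPullback.inv p, ?_⟩
    rw [← Scheme.Hom.comp_apply, IsPullback.isoPullback_inv_fst]
    exact hp
  haveI : IsIso (LefFEt.subMap U.ι I) := (isIso_iff_isOpenImmersion_and_surjective _).2 ⟨inferInstance, inferInstance⟩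
  haveI := DivisorExt.isIso_unitToPush (LefFEt.subMap U.ι I)
  unfold LefFEt.kMap
  infer_instance

/-- Equal ideals have isomorphic quotients. -/
theorem isIso_quotMap_of_eq {T : Scheme.{u}} {I J : T.IdealSheafData} (h : I = J) :
    IsIso (Lef.quotMap h.le) := by
  haveI := CurvePoint.epi_toSubscheme I
  haveI := CurvePoint.epi_toSubscheme J
  refine ⟨Lef.quotMap h.ge, ?_, ?_⟩
  · rw [← cancel_epi (ClSub.toSubscheme I), ← Category.assoc, LefFEt.toSub_quotMap, LefFEt.toSub_quotMap,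
      Category.comp_id]
  · rw [← cancel_epi (ClSub.toSubscheme J), ← Category.assoc, LefFEt.toSub_quotMap, LefFEt.toSub_quotMap,
      Category.comp_id]

variable (𝓘 : X.IdealSheafData) (U : X.Opens)

/-- `O_X/I^(n+1) → ι_*(O_U/J^(n+1))`. -/
def kk (n : ℕ) : ClSub.quotMod (𝓘 ^ (n + 1)) ⟶
    (Scheme.Modules.pushforward U.ι).obj (ClSub.quotMod ((𝓘.comap U.ι) ^ (n + 1))) :=
  LefFEt.kMap U.ι (𝓘 ^ (n + 1)) ≫ (Scheme.Modules.pushforward U.ι).map
    (Lef.quotMap (FComplLib.comap_pow U.ι 𝓘 (n + 1)).le)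

theorem isIso_kk (hU : (𝓘.support : Set X) ⊆ (U : Set X)) (n : ℕ) : IsIso (kk 𝓘 U n) := by
  haveI : IsIso (LefFEt.kMap U.ι (𝓘 ^ (n + 1))) := isIso_kMap U (by rw [Scheme.IdealSheafData.support_pow_succ]; exact hU)
  haveI := isIso_quotMap_of_eq (FComplLib.comap_pow U.ι 𝓘 (n + 1))
  unfold kk
  infer_instance

theorem toSub_kk (n : ℕ) : ClSub.toSubscheme (𝓘 ^ (n + 1)) ≫ kk 𝓘 U n =
    ClSub.unitToPush U.ι ≫ (Scheme.Modules.pushforward U.ι).map (ClSub.toSubscheme ((𝓘.comap U.ι) ^ (n + 1))) := by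
  rw [kk, ← Category.assoc, LefFEt.toSub_kMap, Category.assoc, ← Functor.map_comp, LefFEt.toSub_quotMap]

theorem quotMap_kk (n : ℕ) : Lef.quotMap (Lef.pow_succ_le 𝓘 n) ≫ kk 𝓘 U n =
    kk 𝓘 U (n + 1) ≫ (Scheme.Modules.pushforward U.ι).map (Lef.quotMap (Lef.pow_succ_le (𝓘.comap U.ι) n)) := by
  haveI := CurvePoint.epi_toSubscheme (𝓘 ^ (n + 2))
  rw [← cancel_epi (ClSub.toSubscheme (𝓘 ^ (n + 2))), ← Category.assoc, LefFEt.toSub_quotMap, toSub_kk,
    ← Category.assoc, show ClSub.toSubscheme (𝓘 ^ (n + 2)) ≫ kk 𝓘 U (n + 1) = _ from toSub_kk 𝓘 U (n + 1),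
    Category.assoc, ← Functor.map_comp, LefFEt.toSub_quotMap]

end Groth.Agent.H26.LefAmple
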