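import Groth.Prelude.Def_Lef
import Groth.Agent.H26.LefIdem
import Groth.Agent.QCoh.Qcqs
import Groth.Agent.Hartogs.Basic
import Mathlib.RingTheory.Filtration

/-!
# Morphisms to the structure sheaf with zero reductions vanish
-/

noncomputable section

set_option autoImplicit false
set_option linter.style.haveILetI false
set_option backward.isDefEq.respectTransparency false
set_option backward.isDefEq.respectTransparency.types false

universe u

open CategoryTheory CategoryTheory.Limits AlgebraicGeometry TopologicalSpace Opposite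

namespace Groth.Agent.H26.LefAmple

open Groth.Agent

variable {X : Scheme.{u}}

/-- Sections vanishing on every thickening vanish at the points of the subscheme (Krull). -/
theorem germ_eq_zero_of_thickenings [IsLocallyNoetherian X] (J : X.IdealSheafData) {V : X.Opens} (a : Γ(X, V))
    (h : ∀ n, (J ^ (n + 1)).subschemeι.app V a = 0) {y : X} (hyV : y ∈ V) (hy : y ∈ J.support) :
    X.presheaf.germ V y hyV a = 0 := by
  obtain ⟨W, hW, hyW, hWV⟩ := exists_isAffineOpen_mem_and_subset hyV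
  have hWV' : W ≤ V := hWV
  let b := X.presheaf.map (homOfLE hWV').op a
  rw [← TopCat.Presheaf.germ_res_apply X.presheaf (homOfLE hWV') y hyW a]
  have hb : ∀ n : ℕ, b ∈ J.ideal ⟨W, hW⟩ ^ (n + 1) := fun n => by
    have hk : b ∈ (J ^ (n + 1)).ideal ⟨W, hW⟩ := by
      rw [← Scheme.IdealSheafData.ker_subschemeι_app, RingHom.mem_ker]
      show (J ^ (n + 1)).subschemeι.app W (X.presheaf.map (homOfLE hWV').op a) = 0
      rw [← ConcreteCategory.comp_apply, Scheme.Hom.naturality, ConcreteCategory.comp_apply, h n, map_zero]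
    rwa [Scheme.IdealSheafData.ideal_pow, Pi.pow_apply] at hk
  have hle : (J.ideal ⟨W, hW⟩).map (X.presheaf.germ W y hyW).hom ≤ IsLocalRing.maximalIdeal (X.presheaf.stalk y) := by
    refine Ideal.map_le_iff_le_comap.2 fun r hr => ?_
    rw [Ideal.mem_comap, IsLocalRing.mem_maximalIdeal, mem_nonunits_iff, ← Scheme.mem_basicOpen X r y hyW]
    have h2 := (Scheme.IdealSheafData.mem_support_iff_of_mem (U := ⟨W, hW⟩) hyW).1 hy
    exact (Scheme.mem_zeroLocus_iff X _ _).1 h2 r hr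
  have hin : X.presheaf.germ W y hyW b ∈ ⨅ n : ℕ, IsLocalRing.maximalIdeal (X.presheaf.stalk y) ^ n := by
    refine Ideal.mem_iInf.2 fun n => ?_
    have h1 := Ideal.mem_map_of_mem (X.presheaf.germ W y hyW).hom (hb n)
    rw [Ideal.map_pow] at h1
    exact Ideal.pow_le_pow_right n.le_succ (Ideal.pow_right_mono hle (n + 1) h1)
  rw [Ideal.iInf_pow_eq_bot_of_isLocalRing _ (IsLocalRing.maximalIdeal.isMaximal _).ne_top] at hin
  exact Ideal.mem_bot.1 hin

/-- The points at which all values of `φ` vanish form an open set. -/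
theorem isOpen_vanishing [IsLocallyNoetherian X] {D : X.Modules} (hD : Coh.IsQCoh D)
    (φ : D ⟶ Coh.structureModule X) :
    IsOpen {x : X | ∀ (V : X.Opens) (hx : x ∈ V) (s : Γ(D, V)),
      X.presheaf.germ V x hx (show Γ(X, V) from φ.app V s) = 0} := by
  rw [isOpen_iff_forall_mem_open]
  intro x hx
  obtain ⟨_, ⟨W, hW, rfl⟩, hxW, -⟩ :=
    X.isBasis_affineOpens.exists_subset_of_mem_open (Set.mem_univ x) isOpen_univ
  haveI := IsLocallyNoetherian.component_noetherian (X := X) ⟨W, hW⟩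
  let P : Ideal Γ(X, W) :=
    { carrier := Set.range fun s : Γ(D, W) => (show Γ(X, W) from φ.app W s)
      add_mem' := by
        rintro _ _ ⟨s, rfl⟩ ⟨t, rfl⟩
        exact ⟨s + t, map_add (φ.app W).hom s t⟩
      zero_mem' := ⟨0, map_zero (φ.app W).hom⟩
      smul_mem' := by
        rintro r _ ⟨s, rfl⟩
        exact ⟨r • s, Scheme.Modules.Hom.app_smul φ r s⟩ }
  obtain ⟨G, hG⟩ := IsNoetherian.noetherian P
  have hloc : ∀ g ∈ G, ∃ (V' : X.Opens), x ∈ V' ∧ ∀ (y : X) (hyW : y ∈ W), y ∈ V' → X.presheaf.germ W y hyW g = 0 := fun g hg => by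
    obtain ⟨s, rfl⟩ : g ∈ P := hG ▸ Ideal.subset_span hg
    have h0 := (hx W hxW s).trans (map_zero (X.presheaf.germ W x hxW).hom).symm
    obtain ⟨V', hxV', iU, iV, he⟩ := X.presheaf.germ_eq x hxW hxW _ _ h0
    refine ⟨V', hxV', fun y hyW hyV' => ?_⟩
    rw [← TopCat.Presheaf.germ_res_apply X.presheaf iU y hyV' _, he, map_zero, map_zero]
  choose V' hxV' hV' using hloc
  refine ⟨(W : Set X) ∩ ⋂ g : G, (V' g.1 g.2 : Set X), ?_, ?_, hxW, Set.mem_iInter.2 fun g => hxV' g.1 g.2⟩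
  · rintro y ⟨hyW, hy⟩ V hyV s
    have hker : ∀ a ∈ P, X.presheaf.germ W y hyW a = 0 := fun a ha => by
      rw [← hG] at ha
      refine (Ideal.span_le (I := RingHom.ker (X.presheaf.germ W y hyW).hom)).2 (fun g hg => ?_) ha
      exact hV' g hg y hyW (Set.mem_iInter.1 hy ⟨g, hg⟩)
    obtain ⟨_, ⟨_, ⟨r, rfl⟩, rfl⟩, hyr, hrV⟩ : ∃ O ∈ (fun U : X.Opens => (U : Set X)) '' Set.range (fun r : Γ(X, W) => X.basicOpen r),
        y ∈ O ∧ O ⊆ (W : Set X) ∩ (V : Set X) := by
      obtain ⟨r, hrV, hyr⟩ := hW.exists_basicOpen_le (⟨y, hyV, hyW⟩ : (V ⊓ W : X.Opens)) hyW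
      exact ⟨_, ⟨_, ⟨r, rfl⟩, rfl⟩, hyr, fun z hz => ⟨X.basicOpen_le r hz, (hrV hz).1⟩⟩
    have hle : X.basicOpen r ≤ W := X.basicOpen_le r
    have hleV : X.basicOpen r ≤ V := fun z hz => (hrV hz).2
    obtain ⟨n, t, ht⟩ := QCoh.exists_pow_smul_eq_map_of_isQuasiSeparated hD hW.isCompact hW.isQuasiSeparated r
      (D.presheaf.map (homOfLE hleV).op s)
    let a : Γ(X, V) := φ.app V s
    let c : Γ(X, X.basicOpen r) := X.presheaf.map (homOfLE hle).op r
    have e : X.presheaf.map (homOfLE hle).op (show Γ(X, W) from φ.app W t) =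
        c ^ n * X.presheaf.map (homOfLE hleV).op a := by
      refine (QCoh.map_app_comm φ (homOfLE hle) t).symm.trans ?_
      refine (congrArg (φ.app (X.basicOpen r)) ht).trans ?_
      refine (Scheme.Modules.Hom.app_smul φ (c ^ n) _).trans ?_
      exact congrArg (fun z => c ^ n * z) (QCoh.map_app_comm φ (homOfLE hleV) s)
    have h1 := congrArg (X.presheaf.germ (X.basicOpen r) y hyr) e
    rw [TopCat.Presheaf.germ_res_apply, hker _ ⟨t, rfl⟩, map_mul, map_pow, TopCat.Presheaf.germ_res_apply,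
      TopCat.Presheaf.germ_res_apply] at h1
    exact (IsUnit.mul_right_eq_zero (((Scheme.mem_basicOpen X r y hyW).1 hyr).pow n)).1 h1.symm
  · exact W.isOpen.inter (isOpen_iInter_of_finite fun g => (V' g.1 g.2).isOpen)

/-- A morphism to `O_U` all whose reductions vanish is zero, if closed subsets away from `V(𝓘)` have depth two. -/
theorem hom_eq_zero [IsLocallyNoetherian X] (𝓘 : X.IdealSheafData)
    (hdep : ∀ T : Set X, IsClosed T → Disjoint T (𝓘.support : Set X) →
      ∀ z ∈ T, (2 : ℕ∞) ≤ LocCoh.depth (X.presheaf.stalk z) (X.presheaf.stalk z))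
    (U : X.Opens) (hU : (𝓘.support : Set X) ⊆ (U : Set X)) {D : (U : Scheme.{u}).Modules} (hD : Coh.IsQCoh D)
    (φ : D ⟶ Coh.structureModule (U : Scheme.{u}))
    (h : ∀ n, φ ≫ ClSub.toSubscheme ((𝓘.comap U.ι) ^ (n + 1)) = 0) : φ = 0 := by
  let J := 𝓘.comap U.ι
  let G := {x : (U : Scheme.{u}) | ∀ (V : (U : Scheme.{u}).Opens) (hx : x ∈ V) (s : Γ(D, V)),
    (U : Scheme.{u}).presheaf.germ V x hx (show Γ((U : Scheme.{u}), V) from φ.app V s) = 0}
  let Go : (U : Scheme.{u}).Opens := ⟨G, isOpen_vanishing hD φ⟩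
  have hJ : ∀ x : (U : Scheme.{u}), U.ι x ∈ (𝓘.support : Set X) → x ∈ Go := fun x hx V hxV s => by
    refine germ_eq_zero_of_thickenings J _ (fun n => ?_) hxV (by
      show x ∈ ((𝓘.comap U.ι).support : Set (U : Scheme.{u}))
      rw [Scheme.IdealSheafData.support_comap]
      exact hx)
    exact congrArg (fun ψ => ψ.app V s) (h n)
  let U0 : X.Opens := U.ι ''ᵁ Go
  have hdis : Disjoint ((U0 : Set X)ᶜ) (𝓘.support : Set X) :=
    Set.disjoint_left.2 fun z hz hzY => hz ⟨⟨z, hU hzY⟩, hJ ⟨z, hU hzY⟩ hzY, rfl⟩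
  have hd2 := hdep _ U0.isOpen.isClosed_compl hdis
  refine Scheme.Modules.hom_ext _ _ fun V => ?_
  ext s
  refine (Hartogs.restrict_bijective U0 hd2 (U.ι ''ᵁ V)).1 ?_
  show X.presheaf.map _ (show Γ(X, U.ι ''ᵁ V) from φ.app V s) = X.presheaf.map _ 0
  rw [map_zero]
  refine TopCat.Presheaf.section_ext X.sheaf _ _ _ fun z hz => ?_
  obtain ⟨⟨x, hxV, rfl⟩, ⟨x', hx', hxx'⟩⟩ := hz
  obtain rfl : x' = x := U.ι.isOpenEmbedding.injective hxx'
  show X.presheaf.germ _ _ _ (X.presheaf.map _ (show Γ(X, U.ι ''ᵁ V) from φ.app V s)) = X.presheaf.germ _ _ _ 0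
  rw [map_zero, TopCat.Presheaf.germ_res_apply]
  refine (ConcreteCategory.bijective_of_isIso (U.ι.stalkMap x')).1 ?_
  rw [map_zero]
  refine (Scheme.Hom.germ_stalkMap_apply U.ι (U.ι ''ᵁ V) x' ⟨x', hxV, rfl⟩ (show Γ(X, U.ι ''ᵁ V) from φ.app V s)).trans ?_
  refine Eq.trans ?_ (hx' V hxV s)
  have e : U.ι ⁻¹ᵁ (U.ι ''ᵁ V) = V := U.ι.preimage_image_eq V
  rw [← TopCat.Presheaf.germ_res_apply (U : Scheme.{u}).presheaf (homOfLE e.ge) x' hxV]
  refine congrArg ((U : Scheme.{u}).presheaf.germ V x' hxV) ?_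
  rw [Scheme.Opens.ι_app, ← ConcreteCategory.comp_apply]
  show (X.presheaf.map _ ≫ X.presheaf.map _) _ = _
  rw [← X.presheaf.map_comp, Subsingleton.elim ((homOfLE _).op ≫ _) (𝟙 (op (U.ι ''ᵁ V))), X.presheaf.map_id]
  rfl

end Groth.Agent.H26.LefAmple
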