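import Groth.Agent.H26.LefAmple.Global
import Groth.Agent.H26.LefAmple.Sep
import Groth.Agent.H26.LefAmple.Compl
import Groth.Agent.H26.LefAmple.OpenQuot
import Groth.Agent.H23.LocFinCoprod
import Groth.Agent.AmpleVan.Pull
import Groth.Agent.S2325
import Groth.Agent.H9Misc.LocFreeHomTensor

/-!
# The Lefschetz condition for an ample divisor
-/

noncomputable section

set_option autoImplicit false
set_option linter.style.haveILetI false
set_option backward.isDefEq.respectTransparency false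
set_option backward.isDefEq.respectTransparency.types false

universe u

open CategoryTheory CategoryTheory.Limits AlgebraicGeometry TopologicalSpace Opposite
open Groth.Agent.H23

namespace Groth.Agent.H26.LefAmple

open Groth.Agent

variable {X : Scheme.{u}}

/-- Untensoring an epimorphism from a sum of copies of the structure module. -/
theorem epi_desc_untensor {Y : Scheme.{u}} {κ : Type u} (Mu D' D : Y.Modules)
    (p0 : (∐ fun _ : κ => Coh.structureModule Y) ⟶ D') [Epi p0] (e : (SheafHomX.ten Mu).obj D' ≅ D) :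
    Epi (Sigma.desc fun i : κ => (SheafHomX.tenUnitIso Mu).inv ≫
      (SheafHomX.ten Mu).map (Sigma.ι (fun _ : κ => Coh.structureModule Y) i ≫ p0) ≫ e.hom) := by
  refine Preadditive.epi_of_cancel_zero _ fun {G} g hg => ?_
  have hi : ∀ i, (SheafHomX.ten Mu).map (Sigma.ι (fun _ : κ => Coh.structureModule Y) i ≫ p0) ≫ e.hom ≫ g = 0 := fun i => by
    have h2 := congrArg (Sigma.ι (fun _ : κ => Mu) i ≫ ·) hg
    simp only [Sigma.ι_desc_assoc, comp_zero, Category.assoc] at h2
    exact (cancel_epi (SheafHomX.tenUnitIso Mu).inv).1 (h2.trans comp_zero.symm)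
  let h := (SheafHomX.adj Mu).homEquiv _ _ (e.hom ≫ g)
  have hh : p0 ≫ h = 0 := Sigma.hom_ext (f := fun _ : κ => Coh.structureModule Y) _ _ fun i => by
    rw [comp_zero, ← Category.assoc, ← Adjunction.homEquiv_naturality_left, hi i, Adjunction.homEquiv_unit,
      Functor.map_zero, comp_zero]
  have h0 : h = 0 := (cancel_epi p0).1 (hh.trans comp_zero.symm)
  have h3 : e.hom ≫ g = 0 := by
    apply ((SheafHomX.adj Mu).homEquiv _ _).injective
    rw [Adjunction.homEquiv_unit _ _ _ (0 : _ ⟶ _), Functor.map_zero, comp_zero]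
    exact h0
  exact (cancel_epi e.hom).1 (h3.trans comp_zero.symm)

/-- Lifting one component of a formal homomorphism out of an invertible module on an open. -/
theorem exists_component {k : Type u} [Field k] (f : X ⟶ Spec (CommRingCat.of k)) [IsProper f]
    {𝓘 : X.IdealSheafData} {L : X.Modules} (hL : ClSub.IsInverseOf L (ClSub.idealMod 𝓘)) (hamp : CohB1.IsAmple L)
    (hdepth : ∀ x : X, IsClosed ({x} : Set X) → (2 : ℕ∞) ≤ LocCoh.depth (X.presheaf.stalk x) (X.presheaf.stalk x))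
    {E0 M0 : X.Modules} (hE0 : PicF.IsInvertible E0) (w : (DCoh.tensorBi.obj E0).obj M0 ≅ Coh.structureModule X)
    (U : X.Opens) (hU : (𝓘.support : Set X) ⊆ (U : Set X))
    (z : ∀ n, (Scheme.Modules.pullback U.ι).obj M0 ⟶ ClSub.quotMod ((𝓘.comap U.ι) ^ (n + 1)))
    (hz : Lef.IsFormalHom (𝓘.comap U.ι) ((Scheme.Modules.pullback U.ι).obj M0) z) :
    ∃ c : (Scheme.Modules.pullback U.ι).obj M0 ⟶ Coh.structureModule (U : Scheme.{u}),
      ∀ n, c ≫ ClSub.toSubscheme ((𝓘.comap U.ι) ^ (n + 1)) = z n := by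
  haveI := fun n => isIso_kk 𝓘 U hU n
  let adj := Scheme.Modules.pullbackPushforwardAdjunction U.ι
  let y' : ∀ n, M0 ⟶ ClSub.quotMod (𝓘 ^ (n + 1)) := fun n =>
    adj.homEquiv M0 _ (z n) ≫ inv (kk 𝓘 U n)
  have hy' : Lef.IsFormalHom 𝓘 M0 y' := fun n => by
    rw [← cancel_mono (kk 𝓘 U n), Category.assoc, quotMap_kk]
    simp only [y', Category.assoc, IsIso.inv_hom_id_assoc, IsIso.inv_hom_id, Category.comp_id]
    rw [← Adjunction.homEquiv_naturality_right, hz n]
  obtain ⟨ψ, hψ⟩ := exists_hom_of_formal f hL hamp hdepth hE0 w y' hy'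
  refine ⟨(adj.homEquiv _ _).symm (ψ ≫ ClSub.unitToPush U.ι), fun n => ?_⟩
  apply (adj.homEquiv _ _).injective
  rw [Adjunction.homEquiv_naturality_right, Equiv.apply_symm_apply, Category.assoc, ← toSub_kk,
    ← Category.assoc, hψ n]
  simp only [y', Category.assoc, IsIso.inv_hom_id, Category.comp_id]

/-- The Lefschetz condition from depth two at closed points along an ample divisor. -/
theorem lefCond {k : Type u} [Field k] (f : X ⟶ Spec (CommRingCat.of k)) [IsProper f]
    {𝓘 : X.IdealSheafData} {L : X.Modules} (hL : ClSub.IsInverseOf L (ClSub.idealMod 𝓘)) (hamp : CohB1.IsAmple L)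
    (hdepth : ∀ x : X, IsClosed ({x} : Set X) → (2 : ℕ∞) ≤ LocCoh.depth (X.presheaf.stalk x) (X.presheaf.stalk x)) :
    Lef.LefCond X 𝓘 := by
  intro U hU D hDlf
  haveI : IsLocallyNoetherian X := LocallyOfFiniteType.isLocallyNoetherian f
  haveI : CompactSpace X := hamp.2.1
  haveI : IsNoetherian X := {}
  haveI : CompactSpace (U : Scheme.{u}) := isCompact_iff_compactSpace.1 (NoetherianSpace.isCompact (U : Set X))
  have hdep : ∀ T : Set X, IsClosed T → Disjoint T (𝓘.support : Set X) →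
      ∀ z ∈ T, (2 : ℕ∞) ≤ LocCoh.depth (X.presheaf.stalk z) (X.presheaf.stalk z) :=
    fun T hT hTY => depth_two_of_disjoint_support f hL hamp hdepth hT hTY
  have hDq : Coh.IsQCoh D := QCoh.isQCoh_of_isFinLocFree hDlf
  let J := 𝓘.comap U.ι
  refine ⟨fun φ ψ h => sub_eq_zero.1 (hom_eq_zero 𝓘 hdep U hU hDq (φ - ψ) fun n => by
    rw [Preadditive.sub_comp, h n, sub_self]), fun y hy => ?_⟩
  letI := PicMul.clMonoid X
  letI := PicMul.clMonoid (U : Scheme.{u})
  let Lu := (Scheme.Modules.pullback U.ι).obj L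
  have hLu : CohB1.IsAmple Lu := AmpleVan.isAmple_pullback_of_isEmbedding U.ι U.ι.isOpenEmbedding.isEmbedding hamp
  haveI := AmpleX.isSeparated_of_isAmple hLu
  have hDc : Coh.IsCoh D := CurveDeg.isCoh_of_isFinLocFree hDlf
  obtain ⟨r, hr⟩ := S2325.result _ Lu hLu D hDc
  obtain ⟨κ, p0, hp0⟩ := hr r le_rfl
  have hI : PicF.IsInvertible (ClSub.idealMod 𝓘) := isInvertible_of_inverse hamp.1 hL
  have hLI : PicF.cl L * PicF.cl (ClSub.idealMod 𝓘) = 1 := PicMul.cl_eq_iff.2 hL
  let E0 := CohB1.tensorPow L r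
  let M0 := CohB1.tensorPow (ClSub.idealMod 𝓘) r
  obtain ⟨w⟩ : Nonempty ((DCoh.tensorBi.obj E0).obj M0 ≅ Coh.structureModule X) := PicMul.cl_eq_iff.1 (by
    show PicF.cl (CohB1.tensorMod E0 M0) = 1
    rw [PicMul.cl_tensor, PicMul.cl_tensorPow, PicMul.cl_tensorPow, ← mul_pow, hLI, one_pow])
  let Mu := (Scheme.Modules.pullback U.ι).obj M0
  obtain ⟨e⟩ : Nonempty (CohB1.tensorMod (CohB1.tensorMod D (CohB1.tensorPow Lu r)) Mu ≅ D) := PicMul.cl_eq_iff.1 (by
    have h1 : PicF.cl Mu = PicMul.pullHom U.ι (PicF.cl (ClSub.idealMod 𝓘)) ^ r := by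
      rw [← map_pow, ← PicMul.cl_tensorPow]
      rfl
    have h2 : PicF.cl Lu = PicMul.pullHom U.ι (PicF.cl L) := rfl
    rw [PicMul.cl_tensor, PicMul.cl_tensor, PicMul.cl_tensorPow, h1, h2, mul_assoc, ← mul_pow, ← map_mul, hLI,
      map_one, one_pow, mul_one])
  have hMu : Coh.IsQCoh Mu := QCoh.isQCoh_pullback U.ι
    (CurveDeg.isCoh_of_isInvertible (PicMul.isInvertible_tensorPow hI r)).1
  let O : κ → (U : Scheme.{u}).Modules := fun _ => Coh.structureModule (U : Scheme.{u})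
  let q : ∀ i : κ, Mu ⟶ D := fun i =>
    (SheafHomX.tenUnitIso Mu).inv ≫ (SheafHomX.ten Mu).map (Sigma.ι O i ≫ p0) ≫ e.hom
  let P : (U : Scheme.{u}).Modules := ∐ fun _ : κ => Mu
  let p : P ⟶ D := Sigma.desc q
  haveI hp : Epi p := epi_desc_untensor Mu _ D p0 e
  have hcomp : ∀ i : κ, ∃ c : Mu ⟶ Coh.structureModule (U : Scheme.{u}),
      ∀ n, c ≫ ClSub.toSubscheme (J ^ (n + 1)) = q i ≫ y n := fun i =>
    exists_component f hL hamp hdepth (PicMul.isInvertible_tensorPow hamp.1 r) w U hU (fun n => q i ≫ y n)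
      fun n => by rw [Category.assoc, hy n]
  choose c hc using hcomp
  let Φ : P ⟶ Coh.structureModule (U : Scheme.{u}) := Sigma.desc c
  have hΦ : ∀ n, Φ ≫ ClSub.toSubscheme (J ^ (n + 1)) = p ≫ y n := fun n => Sigma.hom_ext _ _ fun i => by
    rw [Sigma.ι_desc_assoc, hc i n, Sigma.ι_desc_assoc]
  have hP : Coh.IsQCoh P := H23.LocFinCoprod.isQCoh_coprod (M := fun _ : κ => Mu) fun _ => hMu
  have hK : kernel.ι p ≫ Φ = 0 := hom_eq_zero 𝓘 hdep U hU (QCoh.isQCoh_kernel hP hDq p) _ fun n => by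
    rw [Category.assoc, hΦ, kernel.condition_assoc, zero_comp]
  refine ⟨Abelian.epiDesc p Φ hK, fun n => ?_⟩
  rw [← cancel_epi p, ← Category.assoc, Abelian.comp_epiDesc, hΦ]

end Groth.Agent.H26.LefAmple
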